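import Cfsg.Agent.Omega.TV.Form
import Cfsg.Agent.Omega.TV.Big
import Cfsg.Agent.Omega.TV.One

/-!
# II.d, WrBig, case (beta) over `T`: (A2), (A3) of #17065 (helper676), (A2) after #17543 (helper138)

`H` acts by `ρ` on the `𝔽₂`-space `V`, `Om` an orbit of centres of transvections (`TV.Sys`).
`e : (ι → 𝔽₂²) → V` injective: the lines `V^l` (`l ∈ ι`); `x l ∈ H` rotates `V^l` and fixes the other lines; the
elements of the 2-group `T` permute the lines (`tsup`: they preserve the number of nonzero components);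
`c0 = e (fun _ => (1, 0))` is a point, `φ0 ≠ 0` a functional of `c0` which is `0` on all lines; `T` is a Sylow
2-subgroup of the stabiliser of `c0`.  Then `ι` has one element (`Dat.card_le_one`).
-/

set_option autoImplicit false

namespace Cfsg.Agent.Omega.IId.CaseBeta

open Module Cfsg.Agent.Omega.TV

/-- a line over `𝔽₂` -/
abbrev F4 := ZMod 2 × ZMod 2

/-- rotation of the three nonzero vectors -/
def rot : F4 →ₗ[ZMod 2] F4 where
  toFun v := (v.2, v.1 + v.2)
  map_add' := by decide
  map_smul' := by decide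

theorem rot_sum : ∀ v : F4, v + rot v = rot (rot v) := by decide

theorem rot_three : ∀ v : F4, rot (rot (rot v)) = v := by decide

theorem rot_sum' : ∀ v : F4, v + rot (rot v) = rot v := by decide

theorem rot_zero_iff : ∀ v : F4, rot v = 0 ↔ v = 0 := by decide

theorem rot_all : ∀ v : F4, v = 0 ∨ v = (1, 0) ∨ v = rot (1, 0) ∨ v = rot (rot (1, 0)) := by decide

theorem f4_add_self : ∀ v : F4, v + v = 0 := by decide

variable {H : Type*} [Group H] {V : Type*} [AddCommGroup V] [Module (ZMod 2) V]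
  {ρ : H →* (V ≃ₗ[ZMod 2] V)} {Om : Set V} {ι : Type*} [Fintype ι] [DecidableEq ι]

/-- number of nonzero components -/
def supp (w : ι → F4) : ℕ := (Finset.univ.filter fun l => w l ≠ 0).card

/-- the vector with components `(1, 0)` on `J` and `0` elsewhere -/
def ind (J : Finset ι) : ι → F4 := fun l => if l ∈ J then (1, 0) else 0

/-- the stabiliser of `v` -/
def St (ρ : H →* (V ≃ₗ[ZMod 2] V)) (v : V) : Subgroup H where
  carrier := {g | ρ g v = v}
  one_mem' := rone ρ v
  mul_mem' := by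
    intro a b ha hb
    show ρ (a * b) v = v
    rw [rmul, show ρ b v = v from hb, show ρ a v = v from ha]
  inv_mem' := by
    intro a ha
    show ρ a⁻¹ v = v
    nth_rewrite 1 [← show ρ a v = v from ha]
    exact rinv ρ a v

/-- The hypotheses. -/
structure Dat (ρ : H →* (V ≃ₗ[ZMod 2] V)) (Om : Set V) (T : Subgroup H)
    (e : (ι → F4) →ₗ[ZMod 2] V) (x : ι → H) (φ0 : Dual (ZMod 2) V) : Prop where
  sys : Sys ρ Om
  inj : Function.Injective e
  hx : ∀ l w, ρ (x l) (e w) = e (Function.update w l (rot (w l)))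
  two : IsPGroup 2 T
  tsup : ∀ t ∈ T, ∀ w, ∃ w', ρ t (e w) = e w' ∧ supp w' = supp w
  c0_mem : e (ind Finset.univ) ∈ Om
  ne0 : φ0 ≠ 0
  fn0 : Fn ρ (e (ind Finset.univ)) φ0
  zero0 : ∀ w, φ0 (e w) = 0
  tc0 : T ≤ St ρ (e (ind Finset.univ))
  syl : ¬ 2 ∣ T.relIndex (St ρ (e (ind Finset.univ)))

/-! ### Normal 2-subgroups of the stabiliser of `c0` -/

/-- A 2-group acting on `V`, normal in `K`, acts as a subgroup of `T`. -/
theorem exists_T [Finite V] {T K R : Subgroup H} (hTK : T ≤ K) (hT : ¬ 2 ∣ T.relIndex K)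
    (h2 : ∀ t ∈ T, ∃ n : ℕ, ρ (t ^ 2 ^ n) = 1)
    (hR : R ≤ K) (hn : ∀ k ∈ K, ∀ r ∈ R, k * r * k⁻¹ ∈ R) (hR2 : ∀ r ∈ R, ∃ n : ℕ, ρ (r ^ 2 ^ n) = 1)
    {g : H} (hg : g ∈ R) : ∃ t ∈ T, ρ t = ρ g := by
  have : Finite (V ≃ₗ[ZMod 2] V) := Finite.of_injective (fun f : V ≃ₗ[ZMod 2] V => (f : V → V))
    DFunLike.coe_injective
  have : Fact (Nat.Prime 2) := ⟨Nat.prime_two⟩
  set T' := T.map ρ with hT'
  set K' := K.map ρ with hK'
  set R' := R.map ρ with hR'
  have hTK' : T' ≤ K' := Subgroup.map_mono hTK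
  have hd : ¬ 2 ∣ T'.relIndex K' := by
    rw [hT', hK', ← Subgroup.relIndex_comap]
    exact fun h => hT (h.trans (Subgroup.relIndex_dvd_of_le_left K (Subgroup.le_comap_map ρ T)))
  have hp : ∀ U : Subgroup H, (∀ t ∈ U, ∃ n : ℕ, ρ (t ^ 2 ^ n) = 1) → IsPGroup 2 (U.map ρ) := by
    rintro U hU ⟨_, t, ht, rfl⟩
    obtain ⟨n, hn⟩ := hU t ht
    exact ⟨n, Subtype.ext (by rw [map_pow] at hn; exact hn)⟩
  have hTp := hp T h2
  have hRp := hp R hR2
  have hRn : T' ≤ Subgroup.normalizer (R' : Set (V ≃ₗ[ZMod 2] V)) := by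
    rintro _ ⟨t, ht, rfl⟩
    rw [Subgroup.mem_normalizer_iff]
    have key : ∀ k ∈ K, ∀ y ∈ R', ρ k * y * (ρ k)⁻¹ ∈ R' := by
      rintro k hk _ ⟨r, hr, rfl⟩
      exact ⟨k * r * k⁻¹, hn k hk r hr, by simp⟩
    intro y
    refine ⟨fun hy => key t (hTK ht) y hy, fun hy => ?_⟩
    have h1 := key t⁻¹ (K.inv_mem (hTK ht)) _ hy
    have h3 : ρ t⁻¹ * (ρ t * y * (ρ t)⁻¹) * (ρ t⁻¹)⁻¹ = y := by
      rw [map_inv]; group
    rwa [h3] at h1
  have hsup : IsPGroup 2 (T' ⊔ R' : Subgroup (V ≃ₗ[ZMod 2] V)) := hTp.to_sup_of_normal_right' hRp hRn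
  have hle : T' ⊔ R' ≤ K' := sup_le hTK' (Subgroup.map_mono hR)
  have heq : R' ≤ T' := by
    have h3 : T'.relIndex (T' ⊔ R') ∣ T'.relIndex K' := by
      have := Subgroup.relIndex_mul_relIndex T' (T' ⊔ R') K' le_sup_left hle
      exact ⟨_, this.symm⟩
    obtain ⟨n, hn⟩ := (hsup.index (T'.subgroupOf (T' ⊔ R')))
    rcases Nat.eq_zero_or_pos n with h0 | h0
    · rw [h0, pow_zero] at hn
      exact le_sup_right.trans (Subgroup.relIndex_eq_one.1 hn)
    · exfalso
      apply hd
      refine Dvd.dvd.trans ?_ h3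
      show 2 ∣ (T'.subgroupOf (T' ⊔ R')).index
      rw [hn]
      exact dvd_pow_self 2 (by omega)
  obtain ⟨t, ht, h⟩ := heq ⟨g, hg, rfl⟩
  exact ⟨t, ht, h⟩

/-- `T` contains the elements of the stabiliser of `c` which centralise `ker κ / ⟨c⟩`. -/
theorem exists_T_kappa [Finite V] {T : Subgroup H} {c : V} (hTc : T ≤ St ρ c) (hT : ¬ 2 ∣ T.relIndex (St ρ c))
    (h2 : IsPGroup 2 T) {κ : Dual (ZMod 2) V}
    (hinv : ∀ k ∈ St ρ c, ∀ y, κ (ρ k y) = κ y) {g : H} (hg : ρ g c = c)
    (hgx : ∀ y, κ y = 0 → ρ g y = y ∨ ρ g y = y + c) : ∃ t ∈ T, ρ t = ρ g := by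
  let R : Subgroup H :=
    { carrier := {k | ρ k c = c ∧ ∀ y, κ y = 0 → ρ k y = y ∨ ρ k y = y + c}
      one_mem' := ⟨rone ρ c, fun y _ => Or.inl (rone ρ y)⟩
      mul_mem' := by
        rintro a b ⟨ha, ha'⟩ ⟨hb, hb'⟩
        refine ⟨by rw [rmul, hb, ha], fun y hy => ?_⟩
        rw [rmul]
        rcases hb' y hy with h1 | h1 <;> rcases ha' y hy with h3 | h3 <;> rw [h1]
        · exact Or.inl h3
        · exact Or.inr h3
        · right; rw [map_add, h3, ha]
        · left; rw [map_add, h3, ha, add_add_self]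
      inv_mem' := by
        rintro a ⟨ha, ha'⟩
        have hc : ρ a⁻¹ c = c := by
          nth_rewrite 1 [← ha]
          exact rinv ρ a c
        refine ⟨hc, fun y hy => ?_⟩
        rcases ha' y hy with h1 | h1
        · left
          nth_rewrite 1 [← h1]
          exact rinv ρ a y
        · right
          have h3 : ρ a⁻¹ (ρ a y) = ρ a⁻¹ y + ρ a⁻¹ c := by rw [h1, map_add]
          rw [rinv, hc] at h3
          exact (add_add_self (ρ a⁻¹ y) c).symm.trans (by rw [← h3]) }
  have hRK : R ≤ St ρ c := fun k hk => hk.1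
  refine exists_T (K := St ρ c) (R := R) hTc hT ?_ hRK ?_ ?_ (g := g) ⟨hg, hgx⟩
  · intro t ht
    obtain ⟨n, hn⟩ := h2 ⟨t, ht⟩
    exact ⟨n, by rw [show t ^ 2 ^ n = 1 from congrArg Subtype.val hn, map_one]⟩
  · rintro k hk r ⟨hr, hr'⟩
    have hki : ρ k⁻¹ c = c := (St ρ c).inv_mem hk
    refine ⟨by rw [rmul, rmul, hki, hr, show ρ k c = c from hk], fun y hy => ?_⟩
    have h1 : κ (ρ k⁻¹ y) = 0 := by rw [hinv _ ((St ρ c).inv_mem hk), hy]
    rw [rmul, rmul]
    rcases hr' _ h1 with h3 | h3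
    · left; rw [h3, rinv']
    · right; rw [h3, map_add, rinv', show ρ k c = c from hk]
  · rintro r ⟨hr, hr'⟩
    refine ⟨2, ?_⟩
    ext y
    have h1 : κ (ρ r y + y) = 0 := by rw [map_add, hinv r hr, z2_add_self]
    have h3 : ρ r (ρ r y) = y ∨ ρ r (ρ r y) = y + c := by
      have e1 : ρ r y = y + (ρ r y + y) := by rw [add_comm (ρ r y) y, ← add_assoc, v_add_self, zero_add]
      rcases hr' _ h1 with h4 | h4
      · left
        rw [map_add] at h4
        exact add_right_cancel (h4.trans (add_comm _ _))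
      · right
        rw [map_add] at h4
        have h5 : ρ r (ρ r y) + ρ r y = (y + c) + ρ r y := by rw [h4]; abel
        exact add_right_cancel h5
    have h4 : ρ (r ^ 2 ^ 2) y = ρ r (ρ r (ρ r (ρ r y))) := by
      rw [← rmul, ← rmul, ← rmul]
      have e1 : r ^ 2 ^ 2 = r * r * r * r := by
        rw [show (2 : ℕ) ^ 2 = 4 from rfl, pow_succ, pow_succ, pow_succ, pow_one]
      rw [e1]
    show ρ (r ^ 2 ^ 2) y = y
    rw [h4]
    rcases h3 with h5 | h5
    · rw [h5, h5]
    · rw [h5, map_add, map_add, hr, hr, h5, add_add_self]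

namespace Dat

variable {T : Subgroup H} {e : (ι → F4) →ₗ[ZMod 2] V} {x : ι → H} {φ0 : Dual (ZMod 2) V}

theorem supp_update (l : ι) : supp (Function.update (ind (Finset.univ : Finset ι)) l (rot (1, 0))) =
    Fintype.card ι := by
  unfold supp
  rw [Finset.filter_true_of_mem, Finset.card_univ]
  intro k _
  by_cases hk : k = l
  · subst hk
    rw [Function.update_self]
    decide
  · rw [Function.update_of_ne hk]
    simp [ind]

theorem supp_add (l : ι) : supp (Function.update (ind (Finset.univ : Finset ι)) l (rot (1, 0)) +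
    ind Finset.univ) = 1 := by
  unfold supp
  rw [Finset.card_eq_one]
  refine ⟨l, ?_⟩
  ext k
  simp only [Finset.mem_filter, Finset.mem_univ, true_and, Finset.mem_singleton, Pi.add_apply]
  by_cases hk : k = l
  · subst hk
    rw [Function.update_self]
    simp only [iff_true]
    simp [ind]
    decide
  · rw [Function.update_of_ne hk]
    simp only [hk, iff_false, not_not]
    exact f4_add_self _

variable (h : Dat ρ Om T e x φ0)
include h

/-- no element of `T` acts as `c0^{x l} ↦ c0^{x l} + c0` if there are at least two lines -/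
theorem false_of_T (h2 : 2 ≤ Fintype.card ι) (l : ι) {t : H} (ht : t ∈ T)
    (hta : ρ t (ρ (x l) (e (ind Finset.univ))) = ρ (x l) (e (ind Finset.univ)) + e (ind Finset.univ)) :
    False := by
  rw [h.hx, ← map_add] at hta
  obtain ⟨w', h3, h4⟩ := h.tsup t ht (Function.update (ind Finset.univ) l (rot (ind Finset.univ l)))
  have hl : ind (Finset.univ : Finset ι) l = (1, 0) := by simp [ind]
  rw [h3] at hta
  have h5 := h.inj hta
  rw [hl] at h5 h4
  rw [h5, supp_add, supp_update] at h4
  omega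

theorem ne_c0 (l : ι) : ρ (x l) (e (ind Finset.univ)) ≠ e (ind Finset.univ) := by
  rw [h.hx]
  intro h1
  have h2 := congrFun (h.inj h1) l
  rw [Function.update_self] at h2
  have hl : ind (Finset.univ : Finset ι) l = (1, 0) := by simp [ind]
  rw [hl] at h2
  exact absurd h2 (by decide)

variable [Finite V]

/-- `c0` and `c0^{x l}` are not in one class if there are at least two lines. -/
theorem false_of_near (h2 : 2 ≤ Fintype.card ι) (hclo : Sys.Clo ρ Om) (l : ι)
    (hn : Sys.Near ρ Om (e (ind Finset.univ)) (ρ (x l) (e (ind Finset.univ)))) : False := by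
  have hs := h.sys
  have hc0 := h.c0_mem
  have hne := h.ne_c0 l
  set c := e (ind Finset.univ) with hc
  set a := ρ (x l) c with ha
  have ham : a ∈ Om := hs.inv _ _ hc0
  rcases hs.small_or_big with hsm | hb
  · obtain ⟨f, hf⟩ := hs.exists_form hsm
    have hfc : f c = φ0 := (hf.uniq c hc0 φ0 h.ne0 h.fn0).symm
    have hca : f c a = 0 := by rw [hfc, ha, hc, h.hx]; exact h.zero0 _
    -- `r` with `f r c = 0`, `f r a = 1`
    obtain ⟨r, hr, hrc, hra⟩ : ∃ r ∈ Om, f r c = 0 ∧ f r a = 1 := by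
      obtain ⟨s, hsO, has⟩ := hs.exists_adj ham
      have hsa : f s a = 1 := by rw [hf.comm]; exact (hf.adj_iff ham).1 has
      by_cases hsc : f s c = 0
      · exact ⟨s, hsO, hsc, hsa⟩
      have hsc' := z2_ne_zero hsc
      have hac : a + c ∈ Om := (hclo a ham c hc0 (hs.near_symm hc0 ham hn) hne).1
      obtain ⟨s', hs'O, has'⟩ := hs.exists_adj hac
      have hs' : f s' (a + c) = 1 := by rw [hf.comm]; exact (hf.adj_iff hac).1 has'
      rw [map_add] at hs'
      by_cases hs'a : f s' a = 1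
      · refine ⟨s', hs'O, ?_, hs'a⟩
        rw [hs'a] at hs'
        rcases z2 (f s' c) with h3 | h3
        · exact h3
        · rw [h3] at hs'; exact absurd hs' (by decide)
      · have hs'a' := z2_ne_one hs'a
        rw [hs'a', zero_add] at hs'
        have hss : s ≠ s' := by
          rintro rfl
          rw [hsa] at hs'a'
          exact one_ne_zero hs'a'
        have hnear : Sys.Near ρ Om s s' :=
          ⟨c, hc0, (hf.adj_iff hsO).2 hsc', (hf.adj_iff hc0).2 (by rw [hf.comm]; exact hs')⟩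
        refine ⟨s + s', (hclo s hsO s' hs'O hnear hss).1, ?_, ?_⟩
        · rw [map_add, LinearMap.add_apply, hsc', hs']; exact z2_add_self _
        · rw [map_add, LinearMap.add_apply, hsa, hs'a', add_zero]
    have hrne : r ≠ c := by
      rintro rfl
      rw [hca] at hra
      exact zero_ne_one hra
    have hrn : Sys.Near ρ Om r c := hs.near_trans hr ham hc0
      (hs.near_of_adj hr ham ((hf.adj_iff hr).2 hra)) (hs.near_symm hc0 ham hn)
    have hrcm : r + c ∈ Om := (hclo r hr c hc0 hrn hrne).1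
    obtain ⟨-, g1, hg1⟩ := hf.fn r hr
    obtain ⟨-, g2, hg2⟩ := hf.fn (r + c) hrcm
    have hcr : f c r = 0 := by rw [hf.comm, hrc]
    have hact : ∀ y, f c y = 0 → ρ (g2 * g1) y = y + f r y • c := by
      intro y hy
      rw [rmul, hg1, hg2]
      simp only [map_add, LinearMap.add_apply, map_smul, smul_eq_mul, hf.alt, hcr, hy, add_zero,
        mul_zero, smul_add]
      rcases z2 (f r y) with h3 | h3
      · rw [h3]; simp
      · rw [h3]
        simp only [one_smul]
        calc y + r + (r + c) = y + c + (r + r) := by abel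
          _ = y + c := by rw [v_add_self, add_zero]
    have hgc : ρ (g2 * g1) c = c := by rw [hact c (hf.alt c), hrc, zero_smul, add_zero]
    obtain ⟨t, ht, htg⟩ := exists_T_kappa h.tc0 h.syl h.two (κ := f c)
      (fun k hk y => by
        have h3 := hf.inv k c y
        rwa [show ρ k c = c from hk] at h3) hgc
      (fun y hy => by
        rw [hact y hy]
        rcases z2 (f r y) with h3 | h3
        · left; rw [h3, zero_smul, add_zero]
        · right; rw [h3, one_smul])
    refine h.false_of_T h2 l ht ?_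
    rw [htg]
    rw [hact a hca, hra, one_smul]
  · obtain ⟨ψ, ⟨hψ0, g, hg⟩, hψa⟩ := hs.adj_of_near hb hc0 ham (Ne.symm hne) hn
    have hgc : ρ g c = c := by rw [hg, hψ0, zero_smul, add_zero]
    obtain ⟨t, ht, htg⟩ := exists_T_kappa h.tc0 h.syl h.two (κ := 0) (fun _ _ _ => rfl) hgc
      (fun y _ => by
        rw [hg y]
        rcases z2 (ψ y) with h3 | h3
        · left; rw [h3, zero_smul, add_zero]
        · right; rw [h3, one_smul])
    refine h.false_of_T h2 l ht ?_
    rw [htg, hg, hψa, one_smul]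

/-! ### (A2): several functionals for a centre -/

omit h [Fintype ι] [DecidableEq ι] in
/-- four different points with sum `0` are in one class -/
theorem _root_.Cfsg.Agent.Omega.IId.CaseBeta.near_four (h : Sys ρ Om) (hclo : Sys.Clo ρ Om) {p : Fin 4 → V}
    (hp : ∀ i, p i ∈ Om) (hinj : Function.Injective p) (hsum : p 0 + p 1 + p 2 + p 3 = 0) :
    Sys.Near ρ Om (p 0) (p 1) := by
  have hn : ∀ i j, Sys.Near ρ Om (p i) (p j) → Sys.Near ρ Om (p j) (p i) :=
    fun i j hij => h.near_symm (hp i) (hp j) hij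
  have ht : ∀ i j k, Sys.Near ρ Om (p i) (p j) → Sys.Near ρ Om (p j) (p k) → Sys.Near ρ Om (p i) (p k) :=
    fun i j k => h.near_trans (hp i) (hp j) (hp k)
  have hone : ∀ {u : V} {ψ : Dual (ZMod 2) V} {i j : Fin 4}, u ∈ Om → Fn ρ u ψ → ψ (p i) = 1 →
      ψ (p j) = 1 → Sys.Near ρ Om (p i) (p j) := by
    intro u ψ i j hu hψ hi hj
    exact ⟨u, hu, h.symm hu (hp i) ⟨ψ, hψ, hi⟩, ⟨ψ, hψ, hj⟩⟩
  have hs : ∀ ψ : Dual (ZMod 2) V, ψ (p 0) + ψ (p 1) + ψ (p 2) + ψ (p 3) = 0 := by
    intro ψ
    rw [← map_add, ← map_add, ← map_add, hsum, map_zero]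
  -- two near points are separated by a functional of a point
  have hsep : ∀ i j, i ≠ j → Sys.Near ρ Om (p i) (p j) → ∃ u ∈ Om, ∃ ψ, Fn ρ u ψ ∧ ψ (p i) + ψ (p j) = 1 := by
    intro i j hij hnij
    have hm := (hclo _ (hp i) _ (hp j) hnij (fun e => hij (hinj e))).1
    obtain ⟨u, hu, ha⟩ := h.exists_adj hm
    obtain ⟨ψ, hψ, h1⟩ := h.symm hm hu ha
    exact ⟨u, hu, ψ, hψ, by rw [← map_add]; exact h1⟩
  -- a class contains at least two of the points
  have h0 : Sys.Near ρ Om (p 0) (p 1) ∨ Sys.Near ρ Om (p 0) (p 2) ∨ Sys.Near ρ Om (p 0) (p 3) := by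
    obtain ⟨u, hu, ha⟩ := h.exists_adj (hp 0)
    obtain ⟨ψ, hψ, h1⟩ := h.symm (hp 0) hu ha
    have h3 := hs ψ
    rcases z2 (ψ (p 1)) with h4 | h4
    · rcases z2 (ψ (p 2)) with h5 | h5
      · rcases z2 (ψ (p 3)) with h6 | h6
        · rw [h1, h4, h5, h6] at h3; exact absurd h3 (by decide)
        · exact Or.inr (Or.inr (hone hu hψ h1 h6))
      · exact Or.inr (Or.inl (hone hu hψ h1 h5))
    · exact Or.inl (hone hu hψ h1 h4)
  -- if `p 0` is near `p k` then `p 0` is near one of the two others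
  have hk : ∀ k l : Fin 4, k ≠ 0 → l ≠ 0 → l ≠ 1 → k ≠ l → k ≠ 1 →
      Sys.Near ρ Om (p 0) (p k) → Sys.Near ρ Om (p 0) (p 1) ∨ Sys.Near ρ Om (p 0) (p l) := by
    intro k l hk0 hl0 hl1 hkl hk1 hnk
    obtain ⟨u, hu, ψ, hψ, h1⟩ := hsep 0 k (Ne.symm hk0) hnk
    have h3 := hs ψ
    have h4 : ψ (p 0) + ψ (p k) + (ψ (p 1) + ψ (p l)) = 0 := by
      fin_cases k <;> fin_cases l <;> simp at hk0 hl0 hl1 hkl hk1
      · rw [← h3]; show ψ (p 0) + ψ (p 2) + (ψ (p 1) + ψ (p 3)) = _; abel
      · rw [← h3]; show ψ (p 0) + ψ (p 3) + (ψ (p 1) + ψ (p 2)) = _; abel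
    rw [h1] at h4
    have h5 : (ψ (p 0) = 1 ∨ ψ (p k) = 1) ∧ (ψ (p 1) = 1 ∨ ψ (p l) = 1) := by
      have key : ∀ a b c d : ZMod 2, a + b = 1 → 1 + (c + d) = 0 → (a = 1 ∨ b = 1) ∧ (c = 1 ∨ d = 1) := by
        decide
      exact key _ _ _ _ h1 h4
    obtain ⟨h5, h6⟩ := h5
    have h7 : ∀ m : Fin 4, ψ (p m) = 1 → Sys.Near ρ Om (p 0) (p m) := by
      intro m hm
      rcases h5 with h5 | h5
      · exact hone hu hψ h5 hm
      · exact ht 0 k m hnk (hone hu hψ h5 hm)
    rcases h6 with h6 | h6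
    · exact Or.inl (h7 1 h6)
    · exact Or.inr (h7 l h6)
  have hfin : Sys.Near ρ Om (p 0) (p 2) → Sys.Near ρ Om (p 0) (p 3) → Sys.Near ρ Om (p 0) (p 1) := by
    intro h2 h3
    obtain ⟨u, hu, ha⟩ := h.exists_adj (hp 1)
    obtain ⟨ψ, hψ, h1⟩ := h.symm (hp 1) hu ha
    have h4 := hs ψ
    have h5 : ψ (p 0) = 1 ∨ ψ (p 2) = 1 ∨ ψ (p 3) = 1 := by
      rw [h1] at h4
      have key : ∀ a b c : ZMod 2, a + 1 + b + c = 0 → a = 1 ∨ b = 1 ∨ c = 1 := by decide
      exact key _ _ _ h4
    rcases h5 with h5 | h5 | h5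
    · exact hone hu hψ h5 h1
    · exact ht 0 2 1 h2 (hone hu hψ h5 h1)
    · exact ht 0 3 1 h3 (hone hu hψ h5 h1)
  rcases h0 with h0 | h0 | h0
  · exact h0
  · rcases hk 2 3 (by decide) (by decide) (by decide) (by decide) (by decide) h0 with h1 | h1
    · exact h1
    · exact hfin h0 h1
  · rcases hk 3 2 (by decide) (by decide) (by decide) (by decide) (by decide) h0 with h1 | h1
    · exact h1
    · exact hfin h1 h0

/-- the four points of (A2) -/
theorem near_big (hclo : Sys.Clo ρ Om) {l l' : ι} (hll : l ≠ l') :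
    Sys.Near ρ Om (e (ind Finset.univ)) (ρ (x l) (e (ind Finset.univ))) := by
  have hs := h.sys
  have hc0 := h.c0_mem
  have hl : ∀ l, ind (Finset.univ : Finset ι) l = (1, 0) := by intro l; simp [ind]
  have e1 := h.hx l (ind Finset.univ)
  have e2 := h.hx l' (ind Finset.univ)
  have e3 := h.hx l (Function.update (ind Finset.univ) l' (rot (ind Finset.univ l')))
  rw [← e2, Function.update_of_ne hll] at e3
  rw [hl] at e1 e2 e3
  rw [hl] at e3
  let w : Fin 4 → ι → F4 := ![ind Finset.univ, Function.update (ind Finset.univ) l (rot (1, 0)),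
    Function.update (ind Finset.univ) l' (rot (1, 0)),
    Function.update (Function.update (ind Finset.univ) l' (rot (1, 0))) l (rot (1, 0))]
  have hr1 : rot (1, 0) ≠ ((1, 0) : F4) := by decide
  have hwi : Function.Injective w := by
    intro i j hij
    have a1 := congrFun hij l
    have a2 := congrFun hij l'
    fin_cases i <;> fin_cases j <;>
      simp [w, hl, Function.update_of_ne hll, Function.update_of_ne hll.symm, hr1, hr1.symm] at a1 a2 ⊢
  have hsum : w 0 + w 1 + w 2 + w 3 = 0 := by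
    funext k
    show w 0 k + w 1 k + w 2 k + w 3 k = 0
    by_cases hk : k = l
    · subst hk
      simp [w, hl, Function.update_of_ne hll]
      decide
    · by_cases hk' : k = l'
      · subst hk'
        simp [w, hl, Function.update_of_ne hk]
        decide
      · simp [w, hl, Function.update_of_ne hk, Function.update_of_ne hk']
        decide
  have := near_four hs hclo (p := fun i => e (w i)) (by
    intro i
    fin_cases i
    · exact hc0
    · show e (Function.update (ind Finset.univ) l (rot (1, 0))) ∈ Om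
      rw [← e1]; exact hs.inv _ _ hc0
    · show e (Function.update (ind Finset.univ) l' (rot (1, 0))) ∈ Om
      rw [← e2]; exact hs.inv _ _ hc0
    · show e (Function.update (Function.update (ind Finset.univ) l' (rot (1, 0))) l (rot (1, 0))) ∈ Om
      rw [← e3]; exact hs.inv _ _ (hs.inv _ _ hc0)) (h.inj.comp hwi) (by
    rw [← map_add, ← map_add, ← map_add, hsum, map_zero])
  rw [e1]
  exact this

omit [Finite V] in
theorem hx' (l : ι) (w : ι → F4) : ρ (x l) (e w) = e w + e (Pi.single l (rot (rot (w l)))) := by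
  rw [h.hx, ← map_add]
  congr 1
  funext k
  rw [Pi.add_apply]
  by_cases hk : k = l
  · subst hk
    rw [Function.update_self, Pi.single_eq_same, rot_sum']
  · rw [Function.update_of_ne hk, Pi.single_eq_of_ne hk, add_zero]

omit [Finite V] in
theorem hx_inv (l : ι) (w : ι → F4) : ρ (x l)⁻¹ (e w) = e w + e (Pi.single l (rot (w l))) := by
  have h1 : ρ (x l) (e w + e (Pi.single l (rot (w l)))) = e w := by
    rw [map_add, h.hx', h.hx', Pi.single_eq_same, rot_three]
    have e1 : e w + e (Pi.single l (rot (rot (w l)))) + (e (Pi.single l (rot (w l))) + e (Pi.single l (w l))) =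
        e w + e (Pi.single l (rot (rot (w l))) + Pi.single l (rot (w l)) + Pi.single l (w l)) := by
      rw [map_add, map_add]; abel
    rw [e1, ← Pi.single_add, ← Pi.single_add]
    have e2 : rot (rot (w l)) + rot (w l) + w l = 0 := by
      have : ∀ v : F4, rot (rot v) + rot v + v = 0 := by decide
      exact this _
    rw [e2, Pi.single_zero, map_zero, add_zero]
  rw [← h1, rinv, h1]

/-! ### (A3): one functional for every centre -/

section small

variable {f : V →ₗ[ZMod 2] V →ₗ[ZMod 2] ZMod 2} (hf : Frm ρ Om f)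
include hf

omit [Finite V] in
/-- the form vanishes on the sum of the lines -/
theorem form_zero (w w' : ι → F4) : f (e w) (e w') = 0 := by
  have hc : ∀ w', f (e (ind Finset.univ)) (e w') = 0 := by
    intro w'
    rw [← hf.uniq _ h.c0_mem φ0 h.ne0 h.fn0]
    exact h.zero0 w'
  have hinv : ∀ (l : ι) (u : V) (w' : ι → F4), (∀ w', f u (e w') = 0) → f (ρ (x l) u) (e w') = 0 := by
    intro l u w' hu
    have h1 := hf.inv (x l) u (ρ (x l)⁻¹ (e w'))
    rw [rinv'] at h1
    rw [h1, h.hx_inv, map_add, hu, hu, add_zero]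
  have h1 : ∀ (l : ι) (w' : ι → F4), f (e (Pi.single l (rot (rot (1, 0))))) (e w') = 0 := by
    intro l w'
    have h2 := hinv l _ w' hc
    rw [h.hx', map_add, LinearMap.add_apply, hc, zero_add] at h2
    have hl : ind (Finset.univ : Finset ι) l = (1, 0) := by simp [ind]
    rwa [hl] at h2
  have h2 : ∀ (l : ι) (v : F4), (∀ w', f (e (Pi.single l v)) (e w') = 0) →
      ∀ w', f (e (Pi.single l (rot v))) (e w') = 0 := by
    intro l v hv w'
    have h3 := hinv l _ w' hv
    rw [h.hx] at h3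
    have h4 : Function.update (Pi.single l v : ι → F4) l (rot ((Pi.single l v : ι → F4) l)) = Pi.single l (rot v) := by
      rw [Pi.single_eq_same, Pi.single, Function.update_idem]
      rfl
    rwa [h4] at h3
  have h3 : ∀ (l : ι) (v : F4), ∀ w', f (e (Pi.single l v)) (e w') = 0 := by
    intro l v
    rcases rot_all v with rfl | rfl | rfl | rfl
    · intro w'; rw [Pi.single_zero, map_zero, map_zero, LinearMap.zero_apply]
    · have := h2 l _ (h1 l)
      rwa [rot_three] at this
    · have := h2 l _ (h2 l _ (h1 l))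
      rwa [rot_three] at this
    · exact h1 l
  have h4 : w = ∑ l, Pi.single l (w l) := (Finset.univ_sum_single w).symm
  rw [h4, map_sum, map_sum, LinearMap.sum_apply]
  exact Finset.sum_eq_zero fun l _ => h3 l _ _

omit [Finite V] in
/-- SubA -/
theorem subA {J : Finset ι} {l : ι} (hl : l ∈ J) (hu : e (ind J) ∈ Om) {r : V} (hr : r ∈ Om)
    (hru : f r (e (ind J)) = 1) (hz : ∀ v, f r (e (Pi.single l v)) = 0) :
    e (ind (J.erase l)) ∈ Om ∧ Sys.Near ρ Om (e (ind J)) (e (ind (J.erase l))) := by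
  have hs := h.sys
  have h0 := h.form_zero hf
  set u := e (ind J) with hudef
  have hl1 : ind J l = (1, 0) := by simp [ind, hl]
  have hu1 : ρ (x l) u = u + e (Pi.single l (rot (rot (1, 0)))) := by rw [hudef, h.hx', hl1]
  have hu1m : ρ (x l) u ∈ Om := hs.inv _ _ hu
  have hu2m : ρ (x l) (ρ (x l) u) ∈ Om := hs.inv _ _ hu1m
  have hu2 : ρ (x l) (ρ (x l) u) = u + e (Pi.single l (rot (1, 0))) := by
    rw [hu1, map_add, hu1, h.hx', Pi.single_eq_same]
    have e1 : rot (rot (rot (rot (1, 0)))) = (rot (1, 0) : F4) := by decide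
    rw [e1]
    calc u + e (Pi.single l (rot (rot (1, 0)))) + (e (Pi.single l (rot (rot (1, 0)))) +
          e (Pi.single l (rot (1, 0))))
        = u + e (Pi.single l (rot (1, 0))) + (e (Pi.single l (rot (rot (1, 0)))) +
          e (Pi.single l (rot (rot (1, 0))))) := by abel
      _ = _ := by rw [v_add_self, add_zero]
  have hsum : u + ρ (x l) u + ρ (x l) (ρ (x l) u) = e (ind (J.erase l)) := by
    rw [hu2, hu1]
    have e1 : u + (u + e (Pi.single l (rot (rot (1, 0))))) + (u + e (Pi.single l (rot (1, 0)))) =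
        (u + u) + (u + (e (Pi.single l (rot (rot (1, 0)))) + e (Pi.single l (rot (1, 0))))) := by abel
    rw [e1, v_add_self, zero_add, hudef, ← map_add, ← map_add, ← Pi.single_add]
    congr 1
    funext k
    rw [Pi.add_apply]
    by_cases hk : k = l
    · subst hk
      rw [Pi.single_eq_same, hl1]
      simp [ind]
      decide
    · rw [Pi.single_eq_of_ne hk, add_zero]
      simp [ind, hk]
  have f1 : f r (ρ (x l) u) = 1 := by rw [hu1, map_add, hz, add_zero, hru]
  have f2 : f r (ρ (x l) (ρ (x l) u)) = 1 := by rw [hu2, map_add, hz, add_zero, hru]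
  have g1 : f u (ρ (x l) u) = 0 := by rw [hudef, h.hx]; exact h0 _ _
  have g2 : f u (ρ (x l) (ρ (x l) u)) = 0 := by rw [hudef, h.hx, h.hx]; exact h0 _ _
  have g3 : f (ρ (x l) u) (ρ (x l) (ρ (x l) u)) = 0 := by rw [hudef, h.hx, h.hx]; exact h0 _ _
  have m1 : r + u ∈ Om := hf.add_mem hs hr hu hru
  have m2 : (r + u) + ρ (x l) u ∈ Om := hf.add_mem hs m1 hu1m (by
    rw [map_add, LinearMap.add_apply, f1, g1, add_zero])
  have m3 : ((r + u) + ρ (x l) u) + ρ (x l) (ρ (x l) u) ∈ Om := hf.add_mem hs m2 hu2m (by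
    rw [map_add, map_add, LinearMap.add_apply, LinearMap.add_apply, f2, g2, g3, add_zero, add_zero])
  have m4 : r + (((r + u) + ρ (x l) u) + ρ (x l) (ρ (x l) u)) ∈ Om := hf.add_mem hs hr m3 (by
    rw [map_add, map_add, map_add, hf.alt, hru, f1, f2, zero_add]; decide)
  have e2 : r + (((r + u) + ρ (x l) u) + ρ (x l) (ρ (x l) u)) = e (ind (J.erase l)) := by
    rw [← hsum]
    calc r + (((r + u) + ρ (x l) u) + ρ (x l) (ρ (x l) u))
        = (r + r) + (u + ρ (x l) u + ρ (x l) (ρ (x l) u)) := by abel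
      _ = _ := by rw [v_add_self, zero_add]
  rw [e2] at m4
  refine ⟨m4, r, hr, (hf.adj_iff hu).2 (by rw [hf.comm]; exact hru), (hf.adj_iff hr).2 ?_⟩
  rw [← hsum, map_add, map_add, hru, f1, f2]
  decide

omit [Finite V] in
/-- the functional of `r + r^{x l}` on the lines -/
theorem f_add (r : V) (l : ι) (w : ι → F4) : f (r + ρ (x l) r) (e w) = f r (e (Pi.single l (rot (w l)))) := by
  have h1 : f (ρ (x l) r) (e w) = f r (e w) + f r (e (Pi.single l (rot (w l)))) := by
    have h1 := hf.inv (x l) r (ρ (x l)⁻¹ (e w))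
    rw [rinv'] at h1
    rw [h1, h.hx_inv, map_add]
  rw [map_add, LinearMap.add_apply, h1, ← add_assoc, z2_add_self, zero_add]

omit [Finite V] in
/-- SubB, first case -/
theorem subB1 {J : Finset ι} {l l' : ι} (hll : l ≠ l') (hl : l ∈ J) {r : V} (hr : r ∈ Om)
    (hne : ∃ v, f r (e (Pi.single l v)) ≠ 0) (h1 : f r (ρ (x l) r) = 1) :
    ∃ s ∈ Om, f s (e (ind J)) = 1 ∧ ∀ v, f s (e (Pi.single l' v)) = 0 := by
  have hs := h.sys
  have m0 : r + ρ (x l) r ∈ Om := hf.add_mem hs hr (hs.inv _ _ hr) h1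
  have hfa := h.f_add hf r l
  set s := r + ρ (x l) r with hsdef
  have hl1 : ind J l = (1, 0) := by simp [ind, hl]
  -- the conjugates of `s`
  have hshift : ∀ (s' : V) (A : F4 → F4), A 0 = 0 → (∀ w : ι → F4, f s' (e w) = f r (e (Pi.single l (A (w l))))) →
      ∀ w : ι → F4, f (ρ (x l) s') (e w) = f r (e (Pi.single l (A (rot (rot (w l)))))) := by
    intro s' A _ hA w
    have h2 := hf.inv (x l) s' (ρ (x l)⁻¹ (e w))
    rw [rinv'] at h2
    rw [h2, h.hx_inv, ← map_add, hA, Pi.add_apply, Pi.single_eq_same, rot_sum]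
  have s1 := hshift s rot (by decide) hfa
  have s2 := hshift (ρ (x l) s) (fun v => rot (rot (rot v))) (by decide) s1
  have hm1 : ρ (x l) s ∈ Om := hs.inv _ _ m0
  have hm2 : ρ (x l) (ρ (x l) s) ∈ Om := hs.inv _ _ hm1
  have hl' : ∀ v : F4, (Pi.single l' v : ι → F4) l = 0 := fun v => by rw [Pi.single_eq_of_ne hll]
  have hr0 : f r (e (Pi.single l (0 : F4))) = 0 := by rw [Pi.single_zero, map_zero, map_zero]
  have hone : f r (e (Pi.single l ((1, 0) : F4))) = 1 ∨ f r (e (Pi.single l (rot (1, 0) : F4))) = 1 ∨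
      f r (e (Pi.single l (rot (rot (1, 0)) : F4))) = 1 := by
    obtain ⟨v, hv⟩ := hne
    have hv1 := z2_ne_zero hv
    rcases rot_all v with rfl | rfl | rfl | rfl
    · rw [hr0] at hv1; exact absurd hv1 zero_ne_one
    · exact Or.inl hv1
    · exact Or.inr (Or.inl hv1)
    · exact Or.inr (Or.inr hv1)
  rcases hone with h3 | h3 | h3
  · refine ⟨ρ (x l) s, hm1, ?_, fun v => ?_⟩
    · rw [s1, hl1, rot_three]; exact h3
    · rw [s1, hl', map_zero, map_zero, map_zero]; exact hr0
  · refine ⟨s, m0, ?_, fun v => ?_⟩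
    · rw [hfa, hl1]; exact h3
    · rw [hfa, hl', map_zero]; exact hr0
  · refine ⟨ρ (x l) (ρ (x l) s), hm2, ?_, fun v => ?_⟩
    · rw [s2, hl1]
      have : rot (rot (rot (rot (rot (1, 0))))) = (rot (rot (1, 0)) : F4) := by decide
      rw [this]; exact h3
    · rw [s2, hl', map_zero, map_zero, map_zero, map_zero, map_zero]; exact hr0

omit [Finite V] hf in
/-- conjugates of `e (ind J)` under the rotations of two lines -/
theorem exists_conj {J : Finset ι} {l l' : ι} (hll : l ≠ l') (hl : l ∈ J) (hl' : l' ∈ J) (hu : e (ind J) ∈ Om)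
    {v v' : F4} (hv : v ≠ 0) (hv' : v' ≠ 0) :
    e (Function.update (Function.update (ind J) l v) l' v') ∈ Om := by
  have hs := h.sys
  have hl1 : ind J l = (1, 0) := by simp [ind, hl]
  have hl1' : ind J l' = (1, 0) := by simp [ind, hl']
  have hrot : ∀ (w : ι → F4) (k : ι), e w ∈ Om → e (Function.update w k (rot (w k))) ∈ Om := by
    intro w k hw
    rw [← h.hx]
    exact hs.inv _ _ hw
  have hall : ∀ (w : ι → F4) (k : ι) (v : F4), w k = (1, 0) → v ≠ 0 → e w ∈ Om → e (Function.update w k v) ∈ Om := by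
    intro w k v hk hv hw
    have h1 := hrot w k hw
    have h2 := hrot _ k h1
    rw [Function.update_self, Function.update_idem] at h2
    rw [hk] at h1 h2
    rcases rot_all v with rfl | rfl | rfl | rfl
    · exact absurd rfl hv
    · rwa [← hk, Function.update_eq_self]
    · exact h1
    · exact h2
  refine hall _ l' v' ?_ hv' (hall _ l v hl1 hv hu)
  rw [Function.update_of_ne hll.symm, hl1']

omit [Finite V] in
/-- SubB -/
theorem subB {J : Finset ι} {l l' : ι} (hll : l ≠ l') (hl : l ∈ J) (hl' : l' ∈ J) (hu : e (ind J) ∈ Om) {r : V}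
    (hr : r ∈ Om) (hne : ∃ v, f r (e (Pi.single l v)) ≠ 0) (hne' : ∃ v, f r (e (Pi.single l' v)) ≠ 0) :
    ∃ s ∈ Om, f s (e (ind J)) = 1 ∧ ∀ v, f s (e (Pi.single l' v)) = 0 := by
  have hs := h.sys
  have h0 := h.form_zero hf
  rcases z2 (f r (ρ (x l) r)) with h1 | h1
  swap
  · exact h.subB1 hf hll hl hr hne h1
  obtain ⟨v, hv⟩ := hne
  have hv0 : v ≠ 0 := by
    rintro rfl
    exact hv (by rw [Pi.single_zero, map_zero, map_zero])
  have hv1 := z2_ne_zero hv
  obtain ⟨v', hv'⟩ := hne'
  have hv0' : v' ≠ 0 := by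
    rintro rfl
    exact hv' (by rw [Pi.single_zero, map_zero, map_zero])
  have hv1' := z2_ne_zero hv'
  -- both values occur on the nonzero vectors of the line `l'`
  have hboth : ∀ a : ZMod 2, ∃ y : F4, y ≠ 0 ∧ f r (e (Pi.single l' y)) = a := by
    have h2 : f r (e (Pi.single l' v')) + f r (e (Pi.single l' (rot v'))) + f r (e (Pi.single l' (rot (rot v')))) = 0 := by
      rw [← map_add, ← map_add, ← map_add, ← map_add, ← Pi.single_add, ← Pi.single_add, rot_sum, f4_add_self,
        Pi.single_zero, map_zero, map_zero]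
    have h3 : rot v' ≠ 0 := fun h4 => hv0' ((rot_zero_iff v').1 h4)
    have h4 : rot (rot v') ≠ 0 := fun h5 => h3 ((rot_zero_iff _).1 h5)
    intro a
    rcases z2 a with rfl | rfl
    · rcases z2 (f r (e (Pi.single l' (rot v')))) with h5 | h5
      · exact ⟨_, h3, h5⟩
      · refine ⟨_, h4, ?_⟩
        rw [hv1', h5] at h2
        have : ∀ b : ZMod 2, 1 + 1 + b = 0 → b = 0 := by decide
        exact this _ h2
    · exact ⟨v', hv0', hv1'⟩
  obtain ⟨y, hy0, hy⟩ := hboth (1 + f r (e (Function.update (Function.update (ind J) l v) l' 0)))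
  have hbm := h.exists_conj hll hl hl' hu hv0 hy0
  set w := Function.update (Function.update (ind J) l v) l' y with hw
  have hwl : w l = v := by rw [hw, Function.update_of_ne hll, Function.update_self]
  have hsplit : w = Function.update (Function.update (ind J) l v) l' 0 + Pi.single l' y := by
    funext k
    rw [Pi.add_apply, hw]
    by_cases hk : k = l'
    · subst hk
      rw [Function.update_self, Function.update_self, Pi.single_eq_same, zero_add]
    · rw [Function.update_of_ne hk, Function.update_of_ne hk, Pi.single_eq_of_ne hk, add_zero]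
  have hrb : f r (e w) = 1 := by
    rw [hsplit, map_add, map_add, hy]
    have : ∀ a : ZMod 2, a + (1 + a) = 1 := by decide
    exact this _
  have hm : r + e w ∈ Om := hf.add_mem hs hr hbm hrb
  have hsame : ∀ w', f (r + e w) (e w') = f r (e w') := by
    intro w'
    rw [map_add, LinearMap.add_apply, h0, add_zero]
  have hcross : f (r + e w) (ρ (x l) (r + e w)) = 1 := by
    have e1 : f (e w) (ρ (x l) r) = f r (ρ (x l)⁻¹ (e w)) := by
      have h2 := hf.inv (x l)⁻¹ (e w) (ρ (x l) r)
      rw [rinv] at h2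
      rw [← h2, hf.comm]
    have e2 : f (e w) (ρ (x l) (e w)) = 0 := by rw [h.hx]; exact h0 _ _
    have e4 : f (r + e w) (ρ (x l) (r + e w)) =
        f r (ρ (x l) r) + f r (ρ (x l) (e w)) + (f (e w) (ρ (x l) r) + f (e w) (ρ (x l) (e w))) := by
      simp only [map_add, LinearMap.add_apply]; abel
    rw [e4, h1, e1, e2, h.hx_inv, h.hx', map_add, map_add, hrb, hwl, zero_add, add_zero]
    have e3 : f r (e (Pi.single l (rot (rot v)))) + f r (e (Pi.single l (rot v))) = f r (e (Pi.single l v)) := by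
      rw [← map_add, ← map_add, ← Pi.single_add]
      congr 3
      have : ∀ v : F4, rot (rot v) + rot v = v := by decide
      rw [this]
    rw [hv1] at e3
    have : ∀ a b : ZMod 2, a + b = 1 → 1 + a + (1 + b) = 1 := by decide
    exact this _ _ e3
  exact h.subB1 hf hll hl hm ⟨v, by rw [hsame]; exact hv⟩ hcross

omit [Finite V] in
/-- the CLAIM of (A3) -/
theorem claim [Finite V] {J : Finset ι} {l l' : ι} (hll : l ≠ l') (hl : l ∈ J) (hl' : l' ∈ J)
    (hu : e (ind J) ∈ Om) : ∃ k ∈ J, e (ind (J.erase k)) ∈ Om ∧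
      Sys.Near ρ Om (e (ind J)) (e (ind (J.erase k))) := by
  have hs := h.sys
  obtain ⟨r, hr, ha⟩ := hs.exists_adj hu
  have hru : f r (e (ind J)) = 1 := by rw [hf.comm]; exact (hf.adj_iff hu).1 ha
  by_cases h1 : ∀ v, f r (e (Pi.single l v)) = 0
  · exact ⟨l, hl, h.subA hf hl hu hr hru h1⟩
  by_cases h2 : ∀ v, f r (e (Pi.single l' v)) = 0
  · exact ⟨l', hl', h.subA hf hl' hu hr hru h2⟩
  push Not at h1 h2
  obtain ⟨s, hsO, hs1, hs2⟩ := h.subB hf hll hl hl' hu hr h1 h2
  exact ⟨l', hl', h.subA hf hl' hu hsO hs1 hs2⟩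

omit [Finite V] in
/-- some `y_l` is a point in the class of `e (ind J)` -/
theorem exists_single [Finite V] : ∀ (n : ℕ) (J : Finset ι), J.card = n + 1 → e (ind J) ∈ Om →
    ∃ l ∈ J, e (ind {l}) ∈ Om ∧ Sys.Near ρ Om (e (ind J)) (e (ind {l})) := by
  intro n
  have hs := h.sys
  induction n with
  | zero =>
    intro J hJ hu
    obtain ⟨l, rfl⟩ := Finset.card_eq_one.1 hJ
    exact ⟨l, Finset.mem_singleton_self l, hu, hs.near_refl hu⟩
  | succ n ih =>
    intro J hJ hu
    obtain ⟨l, hl, l', hl', hll⟩ := Finset.one_lt_card.1 (by omega : 1 < J.card)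
    obtain ⟨k, hk, h1, h2⟩ := h.claim hf hll hl hl' hu
    obtain ⟨m, hm, h3, h4⟩ := ih (J.erase k) (by rw [Finset.card_erase_of_mem hk, hJ]; rfl) h1
    exact ⟨m, Finset.mem_of_mem_erase hm, h3, hs.near_trans hu h1 h3 h2 h4⟩

end small

/-- **(A2), (A3)**: there is only one line. -/
theorem card_le_one : Fintype.card ι ≤ 1 := by
  by_contra hcon
  have h2 : 2 ≤ Fintype.card ι := by omega
  have hs := h.sys
  have hc0 := h.c0_mem
  rcases hs.small_or_big with hsm | hb
  · obtain ⟨f, hf⟩ := hs.exists_form hsm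
    obtain ⟨l, -, hl, hn⟩ := h.exists_single hf (Fintype.card ι - 1) Finset.univ
      (by rw [Finset.card_univ]; omega) hc0
    -- the line `V^l`
    have hsing : (ind ({l} : Finset ι)) = Pi.single l (1, 0) := by
      funext k
      by_cases hk : k = l
      · subst hk; simp [ind]
      · simp [ind, hk]
    have h0 := h.form_zero hf
    have hadd : ∀ b ∈ Om, ∀ c ∈ Om, Sys.Near ρ Om b c → b ≠ c → b + c ∈ Om := by
      refine hf.add_mem_of_near' hs hl (hs.inv (x l) _ hl) ?_ ?_
      · have e1 : e (ind {l}) + ρ (x l) (e (ind {l})) = ρ (x l) (ρ (x l) (e (ind {l}))) := by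
          rw [hsing, h.hx, h.hx, ← map_add]
          congr 1
          funext k
          rw [Pi.add_apply]
          by_cases hk : k = l
          · subst hk
            simp only [Function.update_self, Pi.single_eq_same]
            exact rot_sum _
          · simp only [Function.update_of_ne hk, Pi.single_eq_of_ne hk, add_zero]
        rw [e1]
        exact hs.inv _ _ (hs.inv _ _ hl)
      · rw [h.hx]; exact h0 _ _
    have hclo := hs.clo_of hadd
    obtain ⟨l', hll⟩ : ∃ l' : ι, l' ≠ l := by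
      by_contra hc
      push Not at hc
      have : Fintype.card ι ≤ 1 := Fintype.card_le_one_iff.2 fun a b => (hc a).trans (hc b).symm
      omega
    have hne : e (ind Finset.univ) ≠ e (ind {l}) := by
      intro h3
      have h4 := congrFun (h.inj h3) l'
      simp [ind, hll] at h4
    obtain ⟨hm, hn'⟩ := hclo _ hc0 _ hl hn hne
    -- `x l` fixes `c0 + y_l`
    have hfix : ρ (x l) (e (ind Finset.univ) + e (ind {l})) = e (ind Finset.univ) + e (ind {l}) := by
      rw [← map_add, h.hx]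
      congr 1
      funext k
      by_cases hk : k = l
      · subst hk
        have e1 : (ind (Finset.univ : Finset ι) + ind {k}) k = 0 := by
          have e2 : ind (Finset.univ : Finset ι) k = (1, 0) := by simp [ind]
          have e3 : ind ({k} : Finset ι) k = (1, 0) := by simp [ind]
          rw [Pi.add_apply, e2, e3]
          exact f4_add_self _
        rw [Function.update_self, e1, map_zero]
      · rw [Function.update_of_ne hk]
    have hn2 := Sys.Near.conj hs hn' (x l)
    rw [hfix] at hn2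
    exact h.false_of_near h2 hclo l (hs.near_trans hc0 hm (hs.inv _ _ hc0) hn'
      (hs.near_symm (hs.inv _ _ hc0) hm hn2))
  · have hclo := hs.clo_of fun b hb' c hc hn hne => by
      obtain ⟨φ, hφ, h1⟩ := hs.adj_of_near hb hb' hc hne hn
      rw [add_comm]
      exact hs.add_mem hc ⟨φ, hφ, h1⟩
    obtain ⟨l, l', hll⟩ := Fintype.exists_pair_of_one_lt_card (α := ι) (by omega)
    exact h.false_of_near h2 hclo l (h.near_big hclo hll)

end Dat

end Cfsg.Agent.Omega.IId.CaseBeta
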